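import Groth.Agent.H81.RelProj.GrTilde.Basic
import Groth.Agent.Lib.TensorMod.Dual

/-!
# Exactness properties of `M ↦ M(n)~`
-/

set_option autoImplicit false
set_option linter.unusedSectionVars false

noncomputable section

universe u

open CategoryTheory AlgebraicGeometry TopologicalSpace Opposite
open scoped HomogeneousIdeal

namespace Groth.Agent.H81.RelProj.GrTilde.MapProps

open Groth.Agent.H81.RelProj.GrTilde.Frac Groth.Agent.H81.RelProj.GrTilde.Basic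

variable {A σT : Type u} [CommRing A] [SetLike σT A] [AddSubgroupClass σT A] {𝒜 : ℕ → σT} [GradedRing 𝒜]
variable {M τT : Type u} [AddCommGroup M] [Module A M] [SetLike τT M] [AddSubgroupClass τT M] {ℳ : ℕ → τT}
  [SetLike.GradedSMul 𝒜 ℳ] [DirectSum.Decomposition ℳ]
variable {N τN : Type u} [AddCommGroup N] [Module A N] [SetLike τN N] [AddSubgroupClass τN N] {𝒩 : ℕ → τN}
  [SetLike.GradedSMul 𝒜 𝒩] [DirectSum.Decomposition 𝒩]
variable {L τL : Type u} [AddCommGroup L] [Module A L] [SetLike τL L] [AddSubgroupClass τL L] {ℒ : ℕ → τL}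
  [SetLike.GradedSMul 𝒜 ℒ] [DirectSum.Decomposition ℒ]

theorem exists_deg_pos_notMem (x : ProjectiveSpectrum 𝒜) : ∃ d, 0 < d ∧ ∃ f ∈ 𝒜 d, f ∉ x.asHomogeneousIdeal := by
  by_contra h
  push Not at h
  exact x.not_irrelevant_le ((HomogeneousIdeal.irrelevant_le 𝒜).mpr h)

theorem exists_deg_ge_notMem (x : ProjectiveSpectrum 𝒜) (N : ℕ) :
    ∃ d, N ≤ d ∧ ∃ f ∈ 𝒜 d, f ∉ x.asHomogeneousIdeal := by
  obtain ⟨d, hd, f, hf, hfx⟩ := exists_deg_pos_notMem x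
  exact ⟨N * d, Nat.le_mul_of_pos_right N hd, f ^ N, by simpa [smul_eq_mul] using SetLike.pow_mem_graded N hf,
    fun h => hfx (x.isPrime.mem_of_pow_mem N h)⟩

/-- If the pieces of large degree vanish, so do the sections. -/
theorem sect_eq_zero {n₀ : ℕ} (h : ∀ k, n₀ ≤ k → ∀ m ∈ ℳ k, m = 0) {n : ℤ}
    {U : Opens (ProjectiveSpectrum.top 𝒜)} (σ : GrMod.sect 𝒜 ℳ n (op U)) : σ = 0 := by
  refine sect_ext fun x => ?_
  obtain ⟨j, s, a, hs, ha, hsx, hv⟩ := exists_local_rep σ x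
  rw [hv x hsx, Basic.val_zero]
  obtain ⟨i, hi, -⟩ := ha.exists_mem
  obtain ⟨d, hd, f, hf, hfx⟩ := exists_deg_ge_notMem x.1 n₀
  exact (mk_eq_zero_iff hi).mpr ⟨d, f, hf, hfx, h (d + i) (by omega) _ (smul_mem_of_mem hf hi)⟩

variable (u : M →ₗ[A] N) (hu : ∀ (i : ℕ) (m : M), m ∈ ℳ i → u m ∈ 𝒩 i) (n : ℤ)

/-- Injectivity in large degrees gives injectivity on sections. -/
theorem map_injective {n₀ : ℕ} (h : ∀ k, n₀ ≤ k → ∀ m ∈ ℳ k, u m = 0 → m = 0)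
    (U : (Proj 𝒜).Opens) : Function.Injective ((GrMod.map 𝒜 u hu n).app U) := by
  rw [injective_iff_map_eq_zero]
  intro (σ : GrMod.sect 𝒜 ℳ n (op U)) hσ
  refine sect_ext fun x => ?_
  obtain ⟨j, s, a, hs, ha, hsx, hv⟩ := exists_local_rep σ x
  rw [hv x hsx]
  change _ = (0 : GrMod.LocMod 𝒜 (M := M) x.1)
  obtain ⟨i, hi, -⟩ := ha.exists_mem
  have h0 : GrMod.locMap u x.1 (val σ x) = 0 := congrArg (fun τ : GrMod.sect 𝒜 𝒩 n (op U) => val τ x) hσ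
  rw [hv x hsx, GrMod.locMap_mk] at h0
  obtain ⟨k, v, hvk, hvx, hv0⟩ := (mk_eq_zero_iff (hu i a hi)).mp h0
  obtain ⟨d, hd, f, hf, hfx⟩ := exists_deg_ge_notMem x.1 n₀
  refine (mk_eq_zero_iff hi).mpr ⟨d + k, f * v, SetLike.mul_mem_graded hf hvk,
    fun hh => (x.1.isPrime.mem_or_mem hh).elim hfx hvx, ?_⟩
  refine h (d + k + i) (by omega) _ (smul_mem_of_mem (SetLike.mul_mem_graded hf hvk) hi) ?_
  rw [map_smul, mul_smul, hv0, smul_zero]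

/-- Surjectivity in large degrees gives local surjectivity on sections. -/
theorem exists_lift {n₀ : ℕ} (h : ∀ k, n₀ ≤ k → ∀ m' ∈ 𝒩 k, ∃ m ∈ ℳ k, u m = m')
    {U : (Proj 𝒜).Opens} (σ : Γ(GrMod.tilde 𝒜 𝒩 n, U)) (x : U) :
    ∃ V : (Proj 𝒜).Opens, x.1 ∈ V ∧ ∀ (O : (Proj 𝒜).Opens) (hOU : O ≤ U), O ≤ V →
      ∃ τ : Γ(GrMod.tilde 𝒜 ℳ n, O),
        (GrMod.map 𝒜 u hu n).app O τ = Lib.TensorMod.Dual.rs (GrMod.tilde 𝒜 𝒩 n) hOU σ := by
  obtain ⟨j, s, b, hs, hb, hsx, hv⟩ := exists_local_rep (σ : GrMod.sect 𝒜 𝒩 n (op U)) x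
  obtain ⟨d, hd, f, hf, hfx⟩ := exists_deg_ge_notMem x.1 n₀
  obtain ⟨a, ha, hab⟩ : ∃ a : M, Deg ℳ ((d + j : ℕ) + n) a ∧ u a = f • b := by
    have hfb := hb.smul hf
    rcases hfb with ⟨i, hi, hi'⟩ | h0
    · rcases hb with ⟨i', hi'', hb'⟩ | hb0
      · obtain ⟨m, hm, hmm⟩ := h i (by omega) _ hi'
        exact ⟨m, Or.inl ⟨i, by push_cast; omega, hm⟩, hmm⟩
      · exact ⟨0, Deg.zero _, by rw [hb0, smul_zero, map_zero]⟩
    · exact ⟨0, Deg.zero _, by rw [h0, map_zero]⟩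
  refine ⟨Proj.basicOpen 𝒜 (f * s), fun hh => (x.1.isPrime.mem_or_mem hh).elim hfx hsx, fun O hOU hOV => ?_⟩
  refine ⟨fracSec O (SetLike.mul_mem_graded hf hs) ha hOV, sect_ext fun y => ?_⟩
  have hy : f * s ∉ y.1.asHomogeneousIdeal := hOV y.2
  have hsy : s ∉ y.1.asHomogeneousIdeal := fun hh => hy (Ideal.mul_mem_left _ f hh)
  change GrMod.locMap u y.1 (LocalizedModule.mk a ⟨f * s, hy⟩) = val (σ : GrMod.sect 𝒜 𝒩 n (op U)) ⟨y.1, hOU y.2⟩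
  rw [GrMod.locMap_mk, hv ⟨y.1, hOU y.2⟩ hsy, hab]
  exact mk_smul_den hsy hy

variable (w : N →ₗ[A] L) (hw : ∀ (i : ℕ) (m : N), m ∈ 𝒩 i → w m ∈ ℒ i)

/-- Exactness gives local exactness on sections. -/
theorem exists_lift_of_exact (hex : Function.Exact u w) {U : (Proj 𝒜).Opens}
    (σ : Γ(GrMod.tilde 𝒜 𝒩 n, U)) (hσ : (GrMod.map 𝒜 w hw n).app U σ = 0) (x : U) :
    ∃ V : (Proj 𝒜).Opens, x.1 ∈ V ∧ ∀ (O : (Proj 𝒜).Opens) (hOU : O ≤ U), O ≤ V →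
      ∃ τ : Γ(GrMod.tilde 𝒜 ℳ n, O),
        (GrMod.map 𝒜 u hu n).app O τ = Lib.TensorMod.Dual.rs (GrMod.tilde 𝒜 𝒩 n) hOU σ := by
  classical
  obtain ⟨j, s, b, hs, hb, hsx, hv⟩ := exists_local_rep (σ : GrMod.sect 𝒜 𝒩 n (op U)) x
  obtain ⟨i, hi, -⟩ := hb.exists_mem
  have h0 : GrMod.locMap w x.1 (val (σ : GrMod.sect 𝒜 𝒩 n (op U)) x) = 0 :=
    congrArg (fun τ : GrMod.sect 𝒜 ℒ n (op U) => val τ x) hσ
  rw [hv x hsx, GrMod.locMap_mk] at h0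
  obtain ⟨k, v, hvk, hvx, hv0⟩ := (mk_eq_zero_iff (hw i b hi)).mp h0
  obtain ⟨m, hm⟩ := (hex (v • b)).mp (by rw [map_smul, hv0])
  obtain ⟨a, ha, hab⟩ : ∃ a : M, Deg ℳ ((k + j : ℕ) + n) a ∧ u a = v • b := by
    rcases hb.smul hvk with ⟨i', hi', hmem⟩ | h0
    · refine ⟨DirectSum.decompose ℳ m i', Or.inl ⟨i', by push_cast; omega, SetLike.coe_mem _⟩, ?_⟩
      have e : ∀ m : M, u (DirectSum.decompose ℳ m i' : M) = (DirectSum.decompose 𝒩 (u m) i' : N) := by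
        intro m
        induction m using DirectSum.Decomposition.inductionOn ℳ with
        | zero => simp
        | @homogeneous l m =>
          rcases eq_or_ne l i' with rfl | hl
          · rw [DirectSum.decompose_of_mem_same ℳ m.2, DirectSum.decompose_of_mem_same 𝒩 (hu l m m.2)]
          · rw [DirectSum.decompose_of_mem_ne ℳ m.2 hl, DirectSum.decompose_of_mem_ne 𝒩 (hu l m m.2) hl, map_zero]
        | add a b ha hb => simp [DirectSum.decompose_add, ha, hb]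
      rw [e, hm, DirectSum.decompose_of_mem_same 𝒩 hmem]
    · exact ⟨0, Deg.zero _, by rw [h0, map_zero]⟩
  refine ⟨Proj.basicOpen 𝒜 (v * s), fun hh => (x.1.isPrime.mem_or_mem hh).elim hvx hsx, fun O hOU hOV => ?_⟩
  refine ⟨fracSec O (SetLike.mul_mem_graded hvk hs) ha hOV, sect_ext fun y => ?_⟩
  have hy : v * s ∉ y.1.asHomogeneousIdeal := hOV y.2
  have hsy : s ∉ y.1.asHomogeneousIdeal := fun hh => hy (Ideal.mul_mem_left _ v hh)
  change GrMod.locMap u y.1 (LocalizedModule.mk a ⟨v * s, hy⟩) = val (σ : GrMod.sect 𝒜 𝒩 n (op U)) ⟨y.1, hOU y.2⟩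
  rw [GrMod.locMap_mk, hv ⟨y.1, hOU y.2⟩ hsy, hab]
  exact mk_smul_den hsy hy

end Groth.Agent.H81.RelProj.GrTilde.MapProps
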