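import Groth.Agent.H81.RelProj.GrTilde.QCoh
import Mathlib.RingTheory.Finiteness.ModuleFinitePresentation
import Mathlib.RingTheory.RingHom.Finite
import Mathlib.RingTheory.RingHom.FinitePresentation

/-!
# Finite presentation of `A_(f)` and of the sections of `O(n)` on `D₊(f)`

If `A` is a finitely presented `R`-algebra, then so is `C = A / (f - 1)`; it is finite over `A_(f)`, and
the degree `n` parts of `A_f` are direct summands of it as `A_(f)`-modules.
-/

set_option autoImplicit false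
set_option linter.style.haveILetI false
set_option linter.unusedSectionVars false
universe u

open CategoryTheory AlgebraicGeometry TopologicalSpace Opposite DirectSum HomogeneousLocalization

namespace Groth.Agent.H81.RelProj.GrTilde.FinPres

open Groth.Agent.H81.RelProj.GrTilde.Frac Groth.Agent.H81.RelProj.GrTilde.Basic
open Groth.Agent.H81.RelProj.GrTilde.QCoh

noncomputable section

/-- Finite presentation passes along a surjective change of rings. -/
theorem fp_of_semilinear {R R' : Type*} [CommRing R] [CommRing R'] (σ : R →+* R') (hσ : Function.Surjective σ)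
    {M N : Type*} [AddCommGroup M] [AddCommGroup N] [Module R M] [Module R' N] (e : M ≃+ N)
    (he : ∀ (r : R) (m : M), e (r • m) = σ r • e m) [Module.FinitePresentation R M] :
    Module.FinitePresentation R' N := by
  letI : Algebra R R' := σ.toAlgebra
  letI : Module R N := Module.compHom N σ
  haveI : IsScalarTower R R' N := IsScalarTower.of_algebraMap_smul fun _ _ => rfl
  haveI : Module.FinitePresentation R N :=
    Module.FinitePresentation.of_equiv (R := R) (M := M) (N := N) { e with map_smul' := he }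
  haveI : Module.Finite R R' := Module.Finite.of_surjective (Algebra.linearMap R R') hσ
  haveI : Module.Finite R' N := Module.Finite.of_restrictScalars_finite R R' N
  obtain ⟨k, g, hg⟩ := Module.Finite.exists_fin' R' N
  exact Module.finitePresentation_of_surjective g hg (Submodule.FG.of_restrictScalars R
    (by rw [← LinearMap.ker_restrictScalars]; exact Module.FinitePresentation.fg_ker (g.restrictScalars R) hg))

/-- A retract of a finitely presented module is finitely presented. -/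
theorem fp_of_retract {R M N : Type*} [CommRing R] [AddCommGroup M] [AddCommGroup N] [Module R M] [Module R N]
    [Module.FinitePresentation R M] (l : M →ₗ[R] N) (s : N →ₗ[R] M) (h : ∀ x, l (s x) = x) :
    Module.FinitePresentation R N := by
  refine Module.finitePresentation_of_surjective l (fun x => ⟨s x, h x⟩) ?_
  have : LinearMap.ker l = LinearMap.range (LinearMap.id - s ∘ₗ l) := by
    ext x
    refine ⟨fun hx => ⟨x, ?_⟩, ?_⟩
    · rw [LinearMap.mem_ker] at hx
      simp [hx]
    · rintro ⟨y, rfl⟩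
      simp [LinearMap.mem_ker, h]
  rw [this, LinearMap.range_eq_map]
  exact (Module.Finite.fg_top).map _

variable {A : Type u} [CommRing A] {𝒜 : ℕ → AddSubgroup A} [GradedRing 𝒜] {d : ℕ} {f : A}

variable (f) in
/-- The ring `A / (f - 1)`. -/
abbrev C := A ⧸ Ideal.span {f - 1}

theorem mk_f : Ideal.Quotient.mk (Ideal.span {f - 1}) f = 1 := by
  rw [← map_one (Ideal.Quotient.mk (Ideal.span {f - 1})), Ideal.Quotient.eq]
  exact Ideal.mem_span_singleton_self _

variable (f) in
/-- `A_f → A / (f - 1)`. -/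
def lift : Localization.Away f →+* C f :=
  IsLocalization.Away.lift f (g := Ideal.Quotient.mk (Ideal.span {f - 1})) (by rw [mk_f]; exact isUnit_one)

variable (𝒜 f) in
/-- `A_(f) → A / (f - 1)`. -/
def rho : Away 𝒜 f →+* C f :=
  (lift f).comp (algebraMap (Away 𝒜 f) (Localization.Away f))

theorem lift_mk (a : A) (k : ℕ) :
    lift f (Localization.mk a (⟨f ^ k, k, rfl⟩ : Submonoid.powers f)) = Ideal.Quotient.mk _ a := by
  have h1 : lift f (algebraMap A (Localization.Away f) (f ^ k)) = 1 := by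
    rw [lift, IsLocalization.Away.lift_eq, map_pow, mk_f, one_pow]
  have h2 : Localization.mk a (⟨f ^ k, k, rfl⟩ : Submonoid.powers f) * algebraMap A (Localization.Away f) (f ^ k) =
      algebraMap A (Localization.Away f) a := by
    rw [Localization.mk_eq_mk']
    exact IsLocalization.mk'_spec _ a (⟨f ^ k, k, rfl⟩ : Submonoid.powers f)
  calc lift f (Localization.mk a (⟨f ^ k, k, rfl⟩ : Submonoid.powers f))
      = lift f (Localization.mk a (⟨f ^ k, k, rfl⟩ : Submonoid.powers f) * algebraMap A (Localization.Away f) (f ^ k)) := by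
        rw [map_mul, h1, mul_one]
    _ = Ideal.Quotient.mk _ a := by rw [h2, lift, IsLocalization.Away.lift_eq]

theorem rho_mk (hf : f ∈ 𝒜 d) (k : ℕ) (a : A) (ha : a ∈ 𝒜 (k • d)) :
    rho 𝒜 f (Away.mk 𝒜 hf k a ha) = Ideal.Quotient.mk _ a :=
  lift_mk a k

theorem deg_k {n : ℤ} {k : ℕ} {a : A} (h : Deg 𝒜 (((k • d : ℕ) : ℤ) + n) a) {e : ℕ} {b : A}
    (hb : b ∈ 𝒜 (e • d)) : Deg 𝒜 ((((e + k) • d : ℕ) : ℤ) + n) (b * a) :=
  (h.smul hb).congr (by push_cast [smul_eq_mul]; ring)

/-- A module over `A_(f)` all of whose elements are fractions `a / f ^ k` of degree `n`. -/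
structure FracSys (hf : f ∈ 𝒜 d) (n : ℤ) (S : Type*) [AddCommGroup S] [Module (Away 𝒜 f) S] where
  /-- the fraction `a / f ^ k` -/
  frac : ∀ (k : ℕ) (a : A), Deg 𝒜 (((k • d : ℕ) : ℤ) + n) a → S
  surj : ∀ σ, ∃ k a h, frac k a h = σ
  eq_iff : ∀ {k l a b} (ha) (hb), frac k a ha = frac l b hb ↔ ∃ N, f ^ N * (f ^ l * a - f ^ k * b) = 0
  add : ∀ {k a b} (ha hb), frac k a ha + frac k b hb = frac k (a + b) (ha.add hb)
  smul : ∀ {e k b a} (hb) (ha : Deg 𝒜 (((k • d : ℕ) : ℤ) + n) a),
    Away.mk 𝒜 hf e b hb • frac k a ha = frac (e + k) (b * a) (deg_k ha hb)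

namespace FracSys

variable {hf : f ∈ 𝒜 d} {n : ℤ} {S : Type*} [AddCommGroup S] [Module (Away 𝒜 f) S] (F : FracSys hf n S)

include F

theorem quot_eq {k l : ℕ} {a b : A} {ha : Deg 𝒜 (((k • d : ℕ) : ℤ) + n) a}
    {hb : Deg 𝒜 (((l • d : ℕ) : ℤ) + n) b} (h : F.frac k a ha = F.frac l b hb) :
    Ideal.Quotient.mk (Ideal.span {f - 1}) a = Ideal.Quotient.mk _ b := by
  obtain ⟨N, hN⟩ := (F.eq_iff ha hb).1 h
  have := congrArg (Ideal.Quotient.mk (Ideal.span {f - 1})) hN
  simpa [mk_f, sub_eq_zero] using this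

theorem frac_congr {k : ℕ} {a b : A} (h : a = b) (ha : Deg 𝒜 (((k • d : ℕ) : ℤ) + n) a)
    (hb : Deg 𝒜 (((k • d : ℕ) : ℤ) + n) b) : F.frac k a ha = F.frac k b hb := by
  subst h; rfl

theorem frac_raise {k : ℕ} {a : A} (ha : Deg 𝒜 (((k • d : ℕ) : ℤ) + n) a) (l : ℕ) :
    F.frac k a ha = F.frac (l + k) (f ^ l * a) (deg_k ha (SetLike.pow_mem_graded l hf)) :=
  (F.eq_iff _ _).2 ⟨0, by ring⟩

theorem frac_zero (k : ℕ) : F.frac k 0 (Deg.zero _) = 0 := by
  have h := F.add (k := k) (a := 0) (b := 0) (Deg.zero _) (Deg.zero _)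
  rw [F.frac_congr (add_zero (0 : A)) ((Deg.zero _).add (Deg.zero _)) (Deg.zero _)] at h
  exact add_eq_left.mp h

/-- The numerator of an element, in `A / (f - 1)`. -/
def inclFun (σ : S) : C f := Ideal.Quotient.mk _ (F.surj σ).choose_spec.choose

theorem inclFun_frac {k : ℕ} {a : A} (ha : Deg 𝒜 (((k • d : ℕ) : ℤ) + n) a) :
    F.inclFun (F.frac k a ha) = Ideal.Quotient.mk _ a :=
  F.quot_eq (F.surj (F.frac k a ha)).choose_spec.choose_spec.choose_spec

theorem inclFun_add (σ τ : S) : F.inclFun (σ + τ) = F.inclFun σ + F.inclFun τ := by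
  obtain ⟨k, a, ha, rfl⟩ := F.surj σ
  obtain ⟨l, b, hb, rfl⟩ := F.surj τ
  have e : F.frac l b hb = F.frac (l + k) (f ^ k * b)
      ((deg_k hb (SetLike.pow_mem_graded k hf)).congr (by rw [add_comm k l])) :=
    (F.eq_iff _ _).2 ⟨0, by ring⟩
  rw [F.inclFun_frac, F.inclFun_frac, F.frac_raise ha l, e, F.add, F.inclFun_frac]
  simp [mk_f]

theorem inclFun_smul (r : Away 𝒜 f) (σ : S) : F.inclFun (r • σ) = rho 𝒜 f r * F.inclFun σ := by
  obtain ⟨e, b, hb, rfl⟩ := Away.mk_surjective 𝒜 hf r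
  obtain ⟨k, a, ha, rfl⟩ := F.surj σ
  rw [F.smul, F.inclFun_frac, F.inclFun_frac, rho_mk, map_mul]

open scoped Classical in
/-- The part of a homogeneous element lying in degree `n` modulo `d`. -/
def projPiece (i : ℕ) : 𝒜 i →+ S where
  toFun a := if h : ∃ pq : ℕ × ℕ, i + pq.2 * d = (((pq.1 * d : ℕ) : ℤ) + n) then
    F.frac h.choose.1 (a.1 * f ^ h.choose.2)
      (Deg.of_mem (SetLike.mul_mem_graded a.2 (SetLike.pow_mem_graded _ hf))
        (Or.inl (by have := h.choose_spec; push_cast [smul_eq_mul] at this ⊢; exact this)))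
    else 0
  map_zero' := by
    split_ifs with h
    · exact (F.frac_congr (zero_mul _) _ (Deg.zero _)).trans (F.frac_zero _)
    · rfl
  map_add' a b := by
    split_ifs with h
    · rw [F.add]
      exact F.frac_congr (by rw [AddSubgroup.coe_add, add_mul]) _ _
    · rw [add_zero]

theorem projPiece_eq {i : ℕ} (a : 𝒜 i) (p q : ℕ) (h : i + q * d = (((p * d : ℕ) : ℤ) + n)) (hd : 0 < d) :
    F.projPiece i a = F.frac p (a.1 * f ^ q)
      (Deg.of_mem (SetLike.mul_mem_graded a.2 (SetLike.pow_mem_graded _ hf))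
        (Or.inl (by push_cast [smul_eq_mul] at h ⊢; exact h))) := by
  have hex : ∃ pq : ℕ × ℕ, i + pq.2 * d = (((pq.1 * d : ℕ) : ℤ) + n) := ⟨(p, q), h⟩
  simp only [projPiece, AddMonoidHom.coe_mk, ZeroHom.coe_mk, dif_pos hex]
  refine (F.eq_iff _ _).2 ⟨0, ?_⟩
  have hs := hex.choose_spec
  have : p + hex.choose.2 = hex.choose.1 + q := by
    have h3 : ((p + hex.choose.2 : ℕ) : ℤ) * d = ((hex.choose.1 + q : ℕ) : ℤ) * d := by
      push_cast at hs h ⊢; linarith
    exact_mod_cast mul_right_cancel₀ (by exact_mod_cast hd.ne') h3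
  calc f ^ 0 * (f ^ p * (a.1 * f ^ hex.choose.2) - f ^ hex.choose.1 * (a.1 * f ^ q))
      = a.1 * f ^ (p + hex.choose.2) - a.1 * f ^ (hex.choose.1 + q) := by ring
    _ = 0 := by rw [this, sub_self]

theorem projPiece_eq_zero {i : ℕ} (a : 𝒜 i)
    (h : ¬ ∃ pq : ℕ × ℕ, i + pq.2 * d = (((pq.1 * d : ℕ) : ℤ) + n)) : F.projPiece i a = 0 := by
  simp only [projPiece, AddMonoidHom.coe_mk, ZeroHom.coe_mk, dif_neg h]

open scoped Classical in
/-- The projection `A → S`. -/
def projA : A →+ S := (DirectSum.toAddMonoid F.projPiece).comp (decomposeAddEquiv 𝒜).toAddMonoidHom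

theorem projA_coe {i : ℕ} (a : 𝒜 i) : F.projA (a : A) = F.projPiece i a := by
  classical
  simp [projA]

theorem projA_mul (hd : 0 < d) (e : ℕ) (b : A) (hb : b ∈ 𝒜 (e • d)) (a : A) :
    F.projA (b * a) = Away.mk 𝒜 hf e b hb • F.projA a := by
  classical
  induction a using DirectSum.Decomposition.inductionOn 𝒜 with
  | zero => rw [mul_zero, map_zero, smul_zero]
  | add x y hx hy => rw [mul_add, map_add, map_add, smul_add, hx, hy]
  | @homogeneous i a =>
    have hba : b * (a : A) ∈ 𝒜 (e • d + i) := SetLike.mul_mem_graded hb a.2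
    rw [show b * (a : A) = ((⟨_, hba⟩ : 𝒜 (e • d + i)) : A) from rfl, F.projA_coe, F.projA_coe]
    by_cases h : ∃ pq : ℕ × ℕ, i + pq.2 * d = (((pq.1 * d : ℕ) : ℤ) + n)
    · obtain ⟨⟨p, q⟩, hpq⟩ := h
      rw [F.projPiece_eq a p q hpq hd,
        F.projPiece_eq _ (e + p) q (by push_cast [smul_eq_mul] at hpq ⊢; linarith) hd, F.smul]
      exact F.frac_congr (by ring) _ _
    · rw [F.projPiece_eq_zero a h, smul_zero, F.projPiece_eq_zero]
      rintro ⟨⟨p, q⟩, hpq⟩
      exact h ⟨(p, q + e), by push_cast [smul_eq_mul] at hpq ⊢; linarith⟩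

theorem projA_mul_f (hd : 0 < d) (a : A) : F.projA (f * a) = F.projA a := by
  have h1 : Away.mk 𝒜 hf 1 f (by rwa [one_smul]) = 1 := by
    apply val_injective
    rw [Away.val_mk, val_one, ← Localization.mk_one, Localization.mk_eq_mk_iff, Localization.r_iff_exists]
    exact ⟨1, by simp⟩
  rw [F.projA_mul hd 1 f (by rwa [one_smul]), h1, one_smul]

/-- The projection `A / (f - 1) → S`. -/
def proj (hd : 0 < d) : C f →+ S :=
  QuotientAddGroup.lift (Ideal.span {f - 1}).toAddSubgroup F.projA fun x hx => by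
    obtain ⟨y, rfl⟩ := Ideal.mem_span_singleton.1 ((Submodule.mem_toAddSubgroup _).1 hx)
    rw [AddMonoidHom.mem_ker, sub_mul, one_mul, map_sub, F.projA_mul_f hd, sub_self]

theorem proj_mk (hd : 0 < d) (a : A) : F.proj hd (Ideal.Quotient.mk _ a) = F.projA a := rfl

theorem proj_smul (hd : 0 < d) (r : Away 𝒜 f) (c : C f) : F.proj hd (rho 𝒜 f r * c) = r • F.proj hd c := by
  obtain ⟨e, b, hb, rfl⟩ := Away.mk_surjective 𝒜 hf r
  obtain ⟨a, rfl⟩ := Ideal.Quotient.mk_surjective c
  rw [rho_mk, ← map_mul, F.proj_mk, F.proj_mk, F.projA_mul hd]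

theorem proj_inclFun (hd : 0 < d) (σ : S) : F.proj hd (F.inclFun σ) = σ := by
  obtain ⟨k, a, ha, rfl⟩ := F.surj σ
  rw [F.inclFun_frac, F.proj_mk]
  by_cases h0 : a = 0
  · subst h0
    rw [map_zero]
    exact (F.frac_zero k).symm
  · obtain ⟨i, hi, hai⟩ := ha.resolve_right h0
    rw [show F.projA a = F.projA ((⟨a, hai⟩ : 𝒜 i) : A) from rfl, F.projA_coe,
      F.projPiece_eq _ k 0 (by push_cast [smul_eq_mul] at hi ⊢; linarith) hd]
    exact F.frac_congr (by rw [pow_zero, mul_one]) _ _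

end FracSys

section Main

variable {R : Type u} [CommRing R] (st : R →+* A)

theorem finiteType_away (h0 : ∀ r, st r ∈ 𝒜 0) (hst : st.FiniteType) (hf : f ∈ 𝒜 d)
    (φ : R →+* Away 𝒜 f) (hφ : ∀ r, φ r = Away.mk 𝒜 hf 0 (st r) (by rw [zero_smul]; exact h0 r)) :
    φ.FiniteType := by
  have hp : Function.Surjective (GradedRing.projZeroRingHom' 𝒜) := GradedRing.projZeroRingHom'_surjective 𝒜
  let st₀ : R →+* 𝒜 0 := (GradedRing.projZeroRingHom' 𝒜).comp st
  have hst₀ : st₀.FiniteType := hst.comp_surjective hp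
  have hcomp : (algebraMap (𝒜 0) A).comp st₀ = st := RingHom.ext fun r =>
    decompose_of_mem_same 𝒜 (h0 r)
  haveI : Algebra.FiniteType (𝒜 0) A := by
    rw [← RingHom.finiteType_algebraMap]
    exact RingHom.FiniteType.of_comp_finiteType (f := st₀) (by rw [hcomp]; exact hst)
  have h1 : (algebraMap (𝒜 0) (Away 𝒜 f)).FiniteType :=
    RingHom.finiteType_algebraMap.2 (Away.finiteType f d hf)
  have h2 : φ = (algebraMap (𝒜 0) (Away 𝒜 f)).comp st₀ := RingHom.ext fun r => by
    rw [hφ]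
    apply val_injective
    show Localization.mk (st r) _ = Localization.mk (decompose 𝒜 (st r) 0 : A) _
    rw [decompose_of_mem_same 𝒜 (h0 r)]
    congr 1
    exact Subtype.ext (pow_zero f)
  rw [h2]
  exact h1.comp hst₀

theorem finite_rho (hd : 0 < d) (hf : f ∈ 𝒜 d) (hft : (rho 𝒜 f).FiniteType) : (rho 𝒜 f).Finite := by
  classical
  refine RingHom.IsIntegral.to_finite (fun c => ?_) hft
  letI := (rho 𝒜 f).toAlgebra
  change IsIntegral (Away 𝒜 f) c
  obtain ⟨a, rfl⟩ := Ideal.Quotient.mk_surjective c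
  induction a using DirectSum.Decomposition.inductionOn 𝒜 with
  | zero => rw [map_zero]; exact isIntegral_zero
  | add x y hx hy => rw [map_add]; exact hx.add hy
  | @homogeneous i a =>
    refine IsIntegral.of_pow hd ?_
    have hm : (a : A) ^ d ∈ 𝒜 (i • d) := by
      have := SetLike.pow_mem_graded d a.2
      rwa [smul_eq_mul, mul_comm, ← smul_eq_mul] at this
    rw [← map_pow, ← rho_mk hf i _ hm]
    exact isIntegral_algebraMap

theorem finitePresentation_main (h0 : ∀ r, st r ∈ 𝒜 0) (hst : st.FinitePresentation) (hd : 0 < d) (hf : f ∈ 𝒜 d)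
    (φ : R →+* Away 𝒜 f) (hφ : ∀ r, φ r = Away.mk 𝒜 hf 0 (st r) (by rw [zero_smul]; exact h0 r))
    (F₀ : FracSys hf 0 (Away 𝒜 f)) :
    φ.FinitePresentation ∧ ∀ {n : ℤ} {S : Type u} [AddCommGroup S] [Module (Away 𝒜 f) S]
      (_ : FracSys hf n S), Module.FinitePresentation (Away 𝒜 f) S := by
  have hφft : φ.FiniteType := finiteType_away st h0 (RingHom.FiniteType.of_finitePresentation hst) hf φ hφ
  have hcomp : (rho 𝒜 f).comp φ = (Ideal.Quotient.mk (Ideal.span {f - 1})).comp st :=
    RingHom.ext fun r => by rw [RingHom.comp_apply, hφ, rho_mk]; rfl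
  have hC : ((Ideal.Quotient.mk (Ideal.span {f - 1})).comp st).FinitePresentation :=
    hst.comp_surjective Ideal.Quotient.mk_surjective (by rw [Ideal.mk_ker]; exact ⟨{f - 1}, by simp⟩)
  have hρfp : (rho 𝒜 f).FinitePresentation :=
    RingHom.FinitePresentation.of_comp_finiteType φ (by rw [hcomp]; exact hC) hφft
  have hρf : (rho 𝒜 f).Finite := finite_rho hd hf (RingHom.FiniteType.of_finitePresentation hρfp)
  letI : Algebra R (Away 𝒜 f) := φ.toAlgebra
  letI : Algebra R (C f) := ((rho 𝒜 f).comp φ).toAlgebra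
  letI : Algebra (Away 𝒜 f) (C f) := (rho 𝒜 f).toAlgebra
  haveI : IsScalarTower R (Away 𝒜 f) (C f) := IsScalarTower.of_algebraMap_eq fun _ => rfl
  haveI : Algebra.FinitePresentation R (C f) := by
    show ((rho 𝒜 f).comp φ).FinitePresentation
    rw [hcomp]; exact hC
  haveI : Algebra.FiniteType R (Away 𝒜 f) := hφft
  haveI : Module.Finite (Away 𝒜 f) (C f) := hρf
  haveI : Algebra.FinitePresentation (Away 𝒜 f) (C f) := hρfp
  haveI : Module.FinitePresentation (Away 𝒜 f) (C f) :=
    Module.FinitePresentation.of_finite_of_finitePresentation _ _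
  refine ⟨?_, fun {n S} _ _ F => ?_⟩
  · -- `A_(f)` as a quotient of a polynomial ring
    obtain ⟨m, ψ, hψ⟩ := Algebra.FiniteType.iff_quotient_mvPolynomial''.1 (inferInstance : Algebra.FiniteType R (Away 𝒜 f))
    letI : Algebra (MvPolynomial (Fin m) R) (Away 𝒜 f) := ψ.toRingHom.toAlgebra
    letI : Algebra (MvPolynomial (Fin m) R) (C f) := ((rho 𝒜 f).comp ψ.toRingHom).toAlgebra
    haveI : IsScalarTower (MvPolynomial (Fin m) R) (Away 𝒜 f) (C f) := IsScalarTower.of_algebraMap_eq fun _ => rfl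
    haveI : IsScalarTower R (MvPolynomial (Fin m) R) (C f) := IsScalarTower.of_algebraMap_eq fun r => by
      show (rho 𝒜 f) (φ r) = (rho 𝒜 f) (ψ (algebraMap R (MvPolynomial (Fin m) R) r))
      rw [ψ.commutes]
      rfl
    haveI : Module.Finite (MvPolynomial (Fin m) R) (Away 𝒜 f) :=
      Module.Finite.of_surjective (Algebra.linearMap _ _) hψ
    haveI : Module.Finite (MvPolynomial (Fin m) R) (C f) := Module.Finite.trans (Away 𝒜 f) _
    haveI : Algebra.FinitePresentation (MvPolynomial (Fin m) R) (C f) :=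
      Algebra.FinitePresentation.of_restrict_scalars_finitePresentation R _ _
    haveI : Module.FinitePresentation (MvPolynomial (Fin m) R) (C f) :=
      Module.FinitePresentation.of_finite_of_finitePresentation _ _
    let s : Away 𝒜 f →ₗ[Away 𝒜 f] C f :=
      { toFun := F₀.inclFun, map_add' := F₀.inclFun_add, map_smul' := F₀.inclFun_smul }
    let l : C f →ₗ[Away 𝒜 f] Away 𝒜 f :=
      { F₀.proj hd with map_smul' := fun r c => F₀.proj_smul hd r c }
    haveI : Module.FinitePresentation (MvPolynomial (Fin m) R) (Away 𝒜 f) :=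
      fp_of_retract (l.restrictScalars _) (s.restrictScalars _) (F₀.proj_inclFun hd)
    exact Algebra.FinitePresentation.of_surjective (f := ψ) hψ
      (Module.FinitePresentation.fg_ker (Algebra.linearMap (MvPolynomial (Fin m) R) (Away 𝒜 f)) hψ)
  · let s : S →ₗ[Away 𝒜 f] C f :=
      { toFun := F.inclFun, map_add' := F.inclFun_add, map_smul' := F.inclFun_smul }
    let l : C f →ₗ[Away 𝒜 f] S := { F.proj hd with map_smul' := fun r c => F.proj_smul hd r c }
    exact fp_of_retract l s (F.proj_inclFun hd)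

theorem exists_mem_smul {k : ℕ} {a : A} (h : Deg 𝒜 (((k • d : ℕ) : ℤ) + 0) a) : a ∈ 𝒜 (k • d) := by
  rcases h with ⟨i, hi, ha⟩ | rfl
  · rwa [show i = k • d by exact_mod_cast hi.trans (add_zero _)] at ha
  · exact zero_mem _

/-- `A_(f)` itself. -/
def selfSys (hf : f ∈ 𝒜 d) : FracSys hf 0 (Away 𝒜 f) where
  frac k a h := Away.mk 𝒜 hf k a (exists_mem_smul h)
  surj σ := by
    obtain ⟨k, a, ha, rfl⟩ := Away.mk_surjective 𝒜 hf σ
    exact ⟨k, a, Deg.of_mem ha (Or.inl (add_zero _).symm), rfl⟩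
  eq_iff {k l a b} ha hb := by
    rw [← (val_injective _).eq_iff, Away.val_mk, Away.val_mk, Localization.mk_eq_mk_iff, Localization.r_iff_exists]
    constructor
    · rintro ⟨⟨_, N, rfl⟩, h⟩
      exact ⟨N, by rw [mul_sub, sub_eq_zero]; exact h⟩
    · rintro ⟨N, h⟩
      exact ⟨⟨_, N, rfl⟩, by rwa [mul_sub, sub_eq_zero] at h⟩
  add {k a b} ha hb := by
    apply val_injective
    rw [HomogeneousLocalization.val_add, Away.val_mk, Away.val_mk, Away.val_mk, Localization.add_mk_self]
  smul {e k b a} hb ha := by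
    apply val_injective
    rw [smul_eq_mul, val_mul, Away.val_mk, Away.val_mk, Away.val_mk, Localization.mk_mul]
    congr 1
    exact Subtype.ext (pow_add f e k).symm

theorem finitePresentation_away (h0 : ∀ r, st r ∈ 𝒜 0) (hst : st.FinitePresentation) (hd : 0 < d) (hf : f ∈ 𝒜 d)
    (φ : R →+* Away 𝒜 f) (hφ : ∀ r, φ r = Away.mk 𝒜 hf 0 (st r) (by rw [zero_smul]; exact h0 r)) :
    φ.FinitePresentation :=
  (finitePresentation_main st h0 hst hd hf φ hφ (selfSys hf)).1

set_option synthInstance.maxHeartbeats 400000 in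
/-- The sections of `O(n)` on `D₊(f)` are finitely presented over the functions. -/
theorem finitePresentation_sections (h0 : ∀ r, st r ∈ 𝒜 0) (hst : st.FinitePresentation) (hd : 0 < d)
    (hf : f ∈ 𝒜 d) (n : ℤ) :
    Module.FinitePresentation Γ(Proj 𝒜, Proj.basicOpen 𝒜 f) Γ(GrMod.tilde 𝒜 𝒜 n, Proj.basicOpen 𝒜 f) := by
  let D := ProjectiveSpectrum.basicOpen 𝒜 f
  have hle : ∀ k : ℕ, D ≤ ProjectiveSpectrum.basicOpen 𝒜 (f ^ k) := fun k y hy h =>
    hy (y.isPrime.mem_of_pow_mem k h)
  let σ : Away 𝒜 f →+* Γ(Proj 𝒜, Proj.basicOpen 𝒜 f) := (Proj.awayToSection 𝒜 f).hom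
  have hσ : Function.Surjective σ :=
    (ConcreteCategory.bijective_of_isIso (Proj.basicOpenIsoAway 𝒜 f hf hd).hom).2
  letI : Module (Away 𝒜 f) Γ(GrMod.tilde 𝒜 𝒜 n, Proj.basicOpen 𝒜 f) := Module.compHom _ σ
  let frac : ∀ (k : ℕ) (a : A), Deg 𝒜 (((k • d : ℕ) : ℤ) + n) a → Γ(GrMod.tilde 𝒜 𝒜 n, Proj.basicOpen 𝒜 f) :=
    fun k a ha => fracSec (ℳ := 𝒜) D (SetLike.pow_mem_graded k hf) ha (hle k)
  let F : FracSys hf n Γ(GrMod.tilde 𝒜 𝒜 n, Proj.basicOpen 𝒜 f) :=
    { frac := frac
      surj := fun τ => by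
        obtain ⟨k, i, m, hm, hi, hτ⟩ := exists_frac_basicOpen (ℳ := 𝒜) hd hf τ
        refine ⟨k, m, Deg.of_mem hm (Or.inl (by push_cast [smul_eq_mul]; linarith)), sect_ext fun y => ?_⟩
        exact (val_fracSec _ _ _ _ y).trans (hτ y (hle k y.2)).symm
      eq_iff := fun {k l a b} ha hb => by
        constructor
        · intro h
          obtain ⟨N, hN⟩ := exists_pow_smul_eq_zero (𝒜 := 𝒜) (M := A) (m := f ^ l • a - f ^ k • b) hd hf fun y =>
            (mk_eq_mk_iff (ℳ := 𝒜) (SetLike.pow_mem_graded k hf) (SetLike.pow_mem_graded l hf) (hle k y.2)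
              (hle l y.2) ha hb).mp
              (((val_fracSec D (SetLike.pow_mem_graded k hf) ha (hle k) y).symm.trans
                (congrArg (fun τ => val τ y) h)).trans (val_fracSec D (SetLike.pow_mem_graded l hf) hb (hle l) y))
          exact ⟨N, hN⟩
        · rintro ⟨N, hN⟩
          refine sect_ext fun y => ?_
          refine (val_fracSec D (SetLike.pow_mem_graded k hf) ha (hle k) y).trans
            (Eq.trans ?_ (val_fracSec D (SetLike.pow_mem_graded l hf) hb (hle l) y).symm)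
          exact (mk_eq_mk_iff (ℳ := 𝒜) (SetLike.pow_mem_graded k hf) (SetLike.pow_mem_graded l hf) (hle k y.2)
            (hle l y.2) ha hb).mpr ⟨_, f ^ N, SetLike.pow_mem_graded N hf, hle N y.2, hN⟩
      add := fun {k a b} ha hb => by
        show fracSec (ℳ := 𝒜) D _ ha (hle k) + fracSec (ℳ := 𝒜) D _ hb (hle k) = fracSec (ℳ := 𝒜) D _ (ha.add hb) (hle k)
        refine sect_ext fun x => ?_
        rw [Basic.val_add, val_fracSec, val_fracSec, val_fracSec, LocalizedModule.mk_add_mk, LocalizedModule.mk_eq]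
        refine ⟨1, ?_⟩
        simp only [one_smul, Submonoid.smul_def, Submonoid.coe_mul, smul_eq_mul]
        ring
      smul := fun {e k b a} hb ha => by
        let sc : GrTwist.O (𝒜 := 𝒜) (op D) := Proj.awayToSection 𝒜 f (Away.mk 𝒜 hf e b hb)
        show sc • fracSec (ℳ := 𝒜) D _ ha (hle k) = fracSec (ℳ := 𝒜) D _ _ (hle (e + k))
        refine sect_ext fun y => ?_
        have hye : f ^ e ∉ y.1.asHomogeneousIdeal := hle e y.2
        rw [Basic.val_smul, val_fracSec, val_fracSec]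
        erw [val_awayToSection hf e b hb y hye, LocalizedModule.mk_smul_mk]
        rw [LocalizedModule.mk_eq]
        refine ⟨1, ?_⟩
        simp only [one_smul, Submonoid.smul_def, Submonoid.coe_mul, smul_eq_mul]
        ring }
  haveI := (finitePresentation_main st h0 hst hd hf
    ((algebraMap (𝒜 0) (Away 𝒜 f)).comp ((GradedRing.projZeroRingHom' 𝒜).comp st))
    (fun r => val_injective _ (by
      show Localization.mk (decompose 𝒜 (st r) 0 : A) _ = Localization.mk (st r) _
      rw [decompose_of_mem_same 𝒜 (h0 r)]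
      congr 1
      exact Subtype.ext (pow_zero f).symm)) (selfSys hf)).2 F
  exact fp_of_semilinear σ hσ (AddEquiv.refl _) fun _ _ => rfl

end Main

end

end Groth.Agent.H81.RelProj.GrTilde.FinPres
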