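import Groth.Agent.H81.RelProj.GrTilde.QCoh
import Groth.Agent.H81.RelProj.DegPow

/-!
# Finitely many sections generate `O(n)` on `D₊(f)` for an algebra of finite type
-/

set_option autoImplicit false
universe u

open CategoryTheory AlgebraicGeometry TopologicalSpace Opposite DirectSum

namespace Groth.Agent.H81.RelProj.GrTilde.Finite

open Groth.Agent.H81.RelProj.GrTilde.Frac Groth.Agent.H81.RelProj.GrTilde.Basic
open Groth.Agent.H81.RelProj.GrTilde.QCoh Groth.Agent.H81.RelProj.DegPow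
open Groth.Agent.Lib.ProjTilde.Hom

noncomputable section

variable {A : Type u} [CommRing A] (𝒜 : ℕ → AddSubgroup A) [GradedRing 𝒜]

theorem exists_monomial_gens (hft : letI := intGraded 𝒜; Algebra.FiniteType (intDeg 𝒜 0) A) :
    ∃ (ι : Type u) (_ : Fintype ι) (x : ι → A) (δ : ι → ℕ), (∀ g, 0 < δ g) ∧ (∀ g, x g ∈ 𝒜 (δ g)) ∧
      ∀ (i : ℕ) (Q : A → Prop), Q 0 → (∀ a b, Q a → Q b → Q (a + b)) →
        (∀ (c : A) (e : ι → ℕ), c ∈ 𝒜 0 → ∑ g, e g * δ g = i → Q (c * ∏ g, x g ^ e g)) →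
        ∀ a ∈ 𝒜 i, Q a := by
  classical
  letI := intGraded 𝒜
  haveI := hft
  obtain ⟨s, hs, hdeg⟩ := GradedAlgebra.exists_finset_adjoin_eq_top_and_homogeneous_ne_zero (intDeg 𝒜)
  have hdeg' : ∀ g : s, ∃ d, d ≠ 0 ∧ (g : A) ∈ intDeg 𝒜 d := fun g => hdeg g.1 g.2
  choose d hd0 hd using hdeg'
  refine ⟨s, inferInstance, fun g => g.1, d, fun g => Nat.pos_of_ne_zero (hd0 g), hd,
    fun i Q h0 hadd hmon a ha => ?_⟩
  let mon : (s → ℕ) → A := fun a => ∏ g : s, (g : A) ^ a g
  have hmono : ∀ a : s → ℕ, mon a ∈ intDeg 𝒜 (∑ g, a g * d g) := fun a =>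
    SetLike.prod_mem_graded (intDeg 𝒜) (fun g => a g * d g) (fun g => (g : A) ^ a g) fun g _ => by
      rw [← smul_eq_mul]; exact SetLike.pow_mem_graded (a g) (hd g)
  have hcl : ∀ x ∈ Submonoid.closure (s : Set A), ∃ a : s → ℕ, x = mon a := by
    intro x hx
    induction hx using Submonoid.closure_induction with
    | mem x hx =>
      refine ⟨fun g => if g = ⟨x, hx⟩ then 1 else 0, ?_⟩
      simp only [mon, pow_ite, pow_one, pow_zero, Finset.prod_ite_eq', Finset.mem_univ, if_true]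
    | one => exact ⟨0, by simp [mon]⟩
    | mul x y _ _ hx hy =>
      obtain ⟨a, rfl⟩ := hx
      obtain ⟨b, rfl⟩ := hy
      exact ⟨a + b, by simp [mon, pow_add, Finset.prod_mul_distrib]⟩
  have hall : ∀ y : A, ∀ c ∈ intDeg 𝒜 0, Q (c * (DirectSum.decompose (intDeg 𝒜) y i : A)) := by
    intro y
    have hy : y ∈ Subalgebra.toSubmodule (⊤ : Subalgebra (intDeg 𝒜 0) A) := trivial
    rw [← hs, Algebra.adjoin_eq_span] at hy
    induction hy using Submodule.span_induction with
    | mem y hy =>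
      intro c hc
      obtain ⟨a, rfl⟩ := hcl y hy
      by_cases hn' : ∑ g, a g * d g = i
      · rw [DirectSum.decompose_of_mem_same _ (hn' ▸ hmono a)]
        exact hmon c a hc hn'
      · rw [DirectSum.decompose_of_mem_ne _ (hmono a) hn', mul_zero]
        exact h0
    | zero => intro c _; rw [DirectSum.decompose_zero]; simpa using h0
    | add u v _ _ hu hv =>
      intro c hc
      rw [DirectSum.decompose_add, DirectSum.add_apply, Submodule.coe_add, mul_add]
      exact hadd _ _ (hu c hc) (hv c hc)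
    | smul r u _ hu =>
      intro c hc
      have : (DirectSum.decompose (intDeg 𝒜) (r • u) i : A) = (r : A) * DirectSum.decompose (intDeg 𝒜) u i := by
        show (DirectSum.decompose (intDeg 𝒜) ((r : A) * u) i : A) = _
        rw [DirectSum.coe_decompose_mul_of_left_mem_of_le (intDeg 𝒜) r.2 (Nat.zero_le i), Nat.sub_zero]
      rw [this, ← mul_assoc]
      exact hu _ (by simpa using SetLike.mul_mem_graded (A := intDeg 𝒜) hc r.2)
  have := hall a 1 (SetLike.GradedOne.one_mem (A := intDeg 𝒜))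
  rwa [DirectSum.decompose_of_mem_same _ (show a ∈ intDeg 𝒜 i from ha), one_mul] at this

variable {𝒜}

theorem fracSec_add {n : ℤ} (U : Opens (ProjectiveSpectrum.top 𝒜)) {j : ℕ} {s a b : A} (hs : s ∈ 𝒜 j)
    (ha : Deg 𝒜 (j + n) a) (hb : Deg 𝒜 (j + n) b) (hU : U ≤ ProjectiveSpectrum.basicOpen 𝒜 s) :
    fracSec (ℳ := 𝒜) U hs (ha.add hb) hU = fracSec U hs ha hU + fracSec U hs hb hU := by
  refine sect_ext fun x => ?_
  rw [val_add, val_fracSec, val_fracSec, val_fracSec, LocalizedModule.mk_add_mk, LocalizedModule.mk_eq]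
  refine ⟨1, ?_⟩
  simp only [one_smul, Submonoid.smul_def, Submonoid.coe_mul, smul_eq_mul]
  ring

-- Finitely many sections generate `O(n)` on `D₊(f)`.
set_option synthInstance.maxHeartbeats 400000 in
theorem exists_span_eq_top (hft : letI := intGraded 𝒜; Algebra.FiniteType (intDeg 𝒜 0) A) (n : ℤ) {d : ℕ}
    {f : A} (hd : 0 < d) (hf : f ∈ 𝒜 d) :
    Module.Finite Γ(Proj 𝒜, Proj.basicOpen 𝒜 f) Γ(GrMod.tilde 𝒜 𝒜 n, Proj.basicOpen 𝒜 f) := by
  classical
  obtain ⟨ι, _, x, δ, hδ, hx, hgen⟩ := exists_monomial_gens 𝒜 hft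
  let D := ProjectiveSpectrum.basicOpen 𝒜 f
  let mon : (ι → ℕ) → A := fun e => ∏ g, x g ^ e g
  let wt : (ι → ℕ) → ℕ := fun e => ∑ g, e g * δ g
  have hmono : ∀ e, mon e ∈ 𝒜 (wt e) := fun e =>
    SetLike.prod_mem_graded 𝒜 (fun g => e g * δ g) (fun g => x g ^ e g) fun g _ => by
      rw [← smul_eq_mul]; exact SetLike.pow_mem_graded (e g) (hx g)
  let R := {r : ι → Fin d // ∃ pq : ℕ × ℕ, (wt (fun g => (r g).1) : ℤ) + pq.2 * d = pq.1 * d + n}
  have hle : ∀ k : ℕ, D ≤ ProjectiveSpectrum.basicOpen 𝒜 (f ^ k) := fun k y hy h =>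
    hy (y.isPrime.mem_of_pow_mem k h)
  choose pq hpq using fun r : R => r.2
  let G : R → GrMod.sect 𝒜 𝒜 n (op D) := fun r =>
    fracSec D (s := f ^ (pq r).1) (a := mon (fun g => (r.1 g).1) * f ^ (pq r).2) (SetLike.pow_mem_graded _ hf)
      (Deg.of_mem (SetLike.mul_mem_graded (hmono _) (SetLike.pow_mem_graded _ hf)) (Or.inl (by
        have := hpq r
        simp only [smul_eq_mul] at this ⊢
        push_cast
        linarith))) (hle _)
  refine ⟨⟨Finset.univ.image G, top_unique fun σ _ => ?_⟩⟩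
  rw [Finset.coe_image, Finset.coe_univ, Set.image_univ]
  let S : Submodule Γ(Proj 𝒜, Proj.basicOpen 𝒜 f) Γ(GrMod.tilde 𝒜 𝒜 n, Proj.basicOpen 𝒜 f) :=
    Submodule.span _ (Set.range G)
  change σ ∈ S
  obtain ⟨k, i, m, hm, hi, hσ⟩ := exists_frac_basicOpen (ℳ := 𝒜) hd hf σ
  let Q : A → Prop := fun a => ∃ ha : Deg 𝒜 (((k • d : ℕ) : ℤ) + n) a,
    fracSec (ℳ := 𝒜) D (SetLike.pow_mem_graded k hf) ha (hle k) ∈ S
  have hQ : Q m := by
    refine hgen i Q ⟨Deg.zero (ℳ := 𝒜) _, ?_⟩ (fun a b ha hb => ?_) (fun c e hc he => ?_) m hm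
    · have h0 : fracSec (ℳ := 𝒜) D (SetLike.pow_mem_graded k hf) (Deg.zero (ℳ := 𝒜) (((k • d : ℕ) : ℤ) + n)) (hle k) = 0 :=
        sect_ext fun y => (val_fracSec _ _ _ _ y).trans (LocalizedModule.zero_mk _)
      rw [h0]
      exact zero_mem _
    · obtain ⟨ha, ha'⟩ := ha
      obtain ⟨hb, hb'⟩ := hb
      exact ⟨ha.add hb, by rw [fracSec_add D _ ha hb]; exact add_mem ha' hb'⟩
    · let q : ι → ℕ := fun g => e g / d
      let Qd := wt q
      let r₀ : ι → Fin d := fun g => ⟨e g % d, Nat.mod_lt _ hd⟩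
      have hwe : wt e = wt (fun g => (r₀ g).1) + Qd * d := by
        simp only [wt, Qd, q, r₀, Finset.sum_mul, ← Finset.sum_add_distrib]
        refine Finset.sum_congr rfl fun g _ => ?_
        conv_lhs => rw [← Nat.mod_add_div (e g) d]
        ring
      have hwe' : wt (fun g => q g * d) = Qd • d := by
        simp only [wt, Qd, q, smul_eq_mul, Finset.sum_mul]
        exact Finset.sum_congr rfl fun g _ => by ring
      have hme : mon e = mon (fun g => (r₀ g).1) * mon (fun g => q g * d) := by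
        simp only [mon, ← Finset.prod_mul_distrib, ← pow_add]
        refine Finset.prod_congr rfl fun g _ => ?_
        congr 1
        simp only [q, r₀]
        rw [mul_comm (e g / d)]
        exact (Nat.mod_add_div (e g) d).symm
      have hz : (wt e : ℤ) = k * d + n := by rw [show wt e = i from he]; exact hi
      have hmem : ∃ pq : ℕ × ℕ, (wt (fun g => (r₀ g).1) : ℤ) + pq.2 * d = pq.1 * d + n :=
        ⟨(k, Qd), by rw [← hz, hwe]; push_cast; ring⟩
      let r : R := ⟨r₀, hmem⟩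
      have hcX : c * mon (fun g => q g * d) ∈ 𝒜 (Qd • d) := by
        have := SetLike.mul_mem_graded hc (hmono fun g => q g * d)
        rwa [zero_add, hwe'] at this
      have hce : Deg 𝒜 (((k • d : ℕ) : ℤ) + n) (c * mon e) :=
        Deg.of_mem (SetLike.mul_mem_graded hc (hmono e)) (Or.inl (by
          simp only [smul_eq_mul]; push_cast; rw [hz]; ring))
      refine ⟨hce, ?_⟩
      let sc : GrTwist.O (𝒜 := 𝒜) (op D) := Proj.awayToSection 𝒜 f (HomogeneousLocalization.Away.mk 𝒜 hf Qd _ hcX)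
      have heq : fracSec (ℳ := 𝒜) D (SetLike.pow_mem_graded k hf) hce (hle k) =
          sc • G r := by
        refine sect_ext fun y => ?_
        have hyQ : f ^ Qd ∉ y.1.asHomogeneousIdeal := hle Qd y.2
        rw [val_smul, val_fracSec, val_fracSec]
        erw [val_awayToSection hf Qd _ hcX y hyQ, LocalizedModule.mk_smul_mk]
        rw [LocalizedModule.mk_eq]
        refine ⟨1, ?_⟩
        simp only [one_smul, Submonoid.smul_def, Submonoid.coe_mul, smul_eq_mul]
        have hk : k + (pq r).2 = Qd + (pq r).1 := by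
          have h1 := hpq r
          simp only [r] at h1
          have h2 : (wt e : ℤ) = wt (fun g => (r₀ g).1) + Qd * d := by rw [hwe]; push_cast; ring
          have h3 : ((k + (pq r).2 : ℕ) : ℤ) * d = ((Qd + (pq r).1 : ℕ) : ℤ) * d := by push_cast; linarith
          exact_mod_cast mul_right_cancel₀ (by exact_mod_cast hd.ne') h3
        rw [hme]
        calc f ^ Qd * f ^ (pq r).1 * (c * (mon (fun g => (r₀ g).1) * mon fun g => q g * d))
            = f ^ (k + (pq r).2) * (c * (mon (fun g => (r₀ g).1) * mon fun g => q g * d)) := by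
              rw [hk, pow_add]
          _ = f ^ k * (c * (mon fun g => q g * d) * (mon (fun g => (r₀ g).1) * f ^ (pq r).2)) := by
              rw [pow_add]; ring
      rw [heq]
      exact S.smul_mem sc (Submodule.subset_span ⟨r, rfl⟩)
  obtain ⟨hm', hmem⟩ := hQ
  have : σ = fracSec (ℳ := 𝒜) D (SetLike.pow_mem_graded k hf) hm' (hle k) :=
    sect_ext fun y => (hσ y (hle k y.2)).trans (val_fracSec _ _ _ _ y).symm
  rw [this]
  exact hmem

end

end Groth.Agent.H81.RelProj.GrTilde.Finite
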